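import Cfsg.Agent.S4399
import Cfsg.Agent.Lib.PGroup.Kulakoff
import Cfsg.Agent.Lib.TwoFour.Class64
import Cfsg.Prelude.Def_CaseTheorems

/-!
# 2-groups for the fusion of groups of 2-rank two

A 2-group with an involution whose centralizer has order four is dihedral or quasidihedral; an
extension by a group of order two of a homocyclic group moving its involutions is wreathed; the
group of order 64 of type `PSU₃(4)` has no automorphism of order two modulo inner automorphisms
moving its involutions.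
-/

set_option autoImplicit false
set_option linter.style.haveILetI false

namespace Cfsg.Lib.RankTwoFusion

open Subgroup
open scoped commutatorElement

variable {S : Type*} [Group S] [Finite S]

/-- A 2-group with a small centralizer of an involution, not quaternion. -/
theorem dihedral_or_quasiDihedral (hS : IsPGroup 2 S) {w z : S} (hw : w * w = 1) (hw1 : w ≠ 1)
    (hz : z * z = 1) (hz1 : z ≠ 1) (hzw : z ≠ w) (_hcen : ∀ x, z * x = x * z)
    (hwn : ∃ x, w * x ≠ x * w)
    (hC : ∀ c, w * c = c * w → c = 1 ∨ c = w ∨ c = z ∨ c = z * w) :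
    (∃ m : ℕ, 2 ≤ m ∧ Nonempty (S ≃* DihedralGroup m)) ∨ Cfsg.IsQuasiDihedral S := by
  classical
  haveI : Fact (Nat.Prime 2) := ⟨Nat.prime_two⟩
  set C := centralizer ({w} : Set S)
  have hmemC : ∀ c, c ∈ C ↔ w * c = c * w := fun c => by
    rw [mem_centralizer_singleton_iff]; exact eq_comm
  -- the centralizer has order at most four
  have hC4 : Nat.card C ≤ 4 := by
    have hsub : (C : Set S) ⊆ ↑({1, w, z, z * w} : Finset S) := by
      intro c hc
      simpa [Finset.coe_insert] using hC c ((hmemC c).1 hc)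
    calc Nat.card C = (C : Set S).ncard := (Nat.card_coe_set_eq _)
      _ ≤ (↑({1, w, z, z * w} : Finset S) : Set S).ncard :=
          Set.ncard_le_ncard hsub (Finset.finite_toSet _)
      _ ≤ 4 := by rw [Set.ncard_coe_finset]; exact Finset.card_le_four
  have hnc : ¬ IsCyclic S := by
    intro h
    obtain ⟨x, hx⟩ := hwn
    exact hx (IsCyclic.commGroup.mul_comm w x)
  -- the conjugates of the involution give commutators
  have hidx : (commutator S).index ≤ 4 := by
    let f : S ⧸ C → commutator S := fun q => Quotient.liftOn' q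
      (fun g => ⟨⁅g, w⁆, commutator_mem_commutator (mem_top g) (mem_top w)⟩)
      (by
        intro a b hab
        rw [QuotientGroup.leftRel_apply, hmemC] at hab
        have e : b * w * b⁻¹ = a * w * a⁻¹ := by
          calc b * w * b⁻¹ = a * ((a⁻¹ * b) * w) * b⁻¹ := by group
            _ = a * (w * (a⁻¹ * b)) * b⁻¹ := by rw [hab]
            _ = a * w * a⁻¹ := by group
        refine Subtype.ext ?_
        show a * w * a⁻¹ * w⁻¹ = b * w * b⁻¹ * w⁻¹
        rw [e])
    have hf : Function.Injective f := by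
      intro p q
      induction p using QuotientGroup.induction_on with | _ a => ?_
      induction q using QuotientGroup.induction_on with | _ b => ?_
      intro e
      have e' : a * w * a⁻¹ * w⁻¹ = b * w * b⁻¹ * w⁻¹ := congrArg Subtype.val e
      have e'' : a * w * a⁻¹ = b * w * b⁻¹ := mul_right_cancel e'
      rw [QuotientGroup.eq, hmemC]
      calc w * (a⁻¹ * b) = a⁻¹ * (a * w * a⁻¹) * b := by group
        _ = a⁻¹ * b * w := by rw [e'']; group
    have h1 : C.index ≤ Nat.card (commutator S) := Nat.card_le_card_of_injective f hf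
    have h2 := C.card_mul_index
    have h3 := (commutator S).card_mul_index
    have h4 : 0 < C.index := Nat.pos_of_ne_zero index_ne_zero_of_finite
    by_contra hlt
    push Not at hlt
    have : Nat.card C * C.index < Nat.card (commutator S) * (commutator S).index :=
      calc Nat.card C * C.index ≤ 4 * C.index := Nat.mul_le_mul_right _ hC4
        _ < (commutator S).index * C.index := Nat.mul_lt_mul_of_pos_right hlt h4
        _ ≤ (commutator S).index * Nat.card (commutator S) := Nat.mul_le_mul_left _ h1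
        _ = _ := mul_comm _ _
    omega
  have h4 : (commutator S).index = 4 := le_antisymm hidx (Cfsg.Lib.PGroup.Kulakoff.four_le_comm_index hS hnc)
  haveI : Nontrivial S := ⟨⟨w, 1, hw1⟩⟩
  have hle := Cfsg.Lib.PGroup.commutator_le_frattini hS
  have hfc : frattini S = commutator S := by
    have hd := index_dvd_of_le hle
    rw [h4] at hd
    obtain ⟨j, hj⟩ := hS.index (frattini S)
    have h2 : j ≠ 0 := by
      rintro rfl
      exact Cfsg.Lib.PGroup.frattini_ne_top (G := S)
        (index_eq_one.1 hj)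
    have h1 : j ≠ 1 := by
      rintro rfl
      rw [pow_one] at hj
      obtain ⟨x, -, hx⟩ := SetLike.exists_of_lt (lt_top_iff_ne_top.2 (fun h => by
        rw [h, index_top] at hj; omega : frattini S ≠ ⊤))
      refine hnc (isCyclic_iff_exists_zpowers_eq_top.2 ⟨x, frattini_nongenerating ?_⟩)
      rw [sup_comm]
      exact Cfsg.Lib.PGroup.sup_zpowers_eq_top_of_index (p := 2) hj hx
    have : 4 ≤ (frattini S).index := by
      rw [hj]
      calc 4 = 2 ^ 2 := by norm_num
        _ ≤ _ := Nat.pow_le_pow_right two_pos (by omega)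
    have h5 : (frattini S).index ≤ 4 := Nat.le_of_dvd (by norm_num) hd
    refine (eq_of_le_of_card_ge hle ?_).symm
    have e1 := (frattini S).card_mul_index
    have e2 := (commutator S).card_mul_index
    rw [show (frattini S).index = 4 by omega] at e1
    rw [h4] at e2
    omega
  have hexp : ∀ x : Abelianization S, x ^ 2 = 1 := by
    intro x
    obtain ⟨g, rfl⟩ : ∃ g, Abelianization.of g = x := QuotientGroup.mk_surjective x
    rw [← map_pow]
    exact (QuotientGroup.eq_one_iff _).2 (hfc ▸ Cfsg.Lib.PGroup.pow_mem_frattini hS g)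
  rcases Cfsg.Agent.S4399.result hS (by rw [← h4]; rfl) hexp with h | ⟨k, hk⟩ | ⟨k, hk, a, b, ha, hb, hab⟩ | ⟨k, ⟨e⟩⟩
  · exfalso
    obtain ⟨x, hx⟩ := hwn
    exact hx (((IsPGroup.isMulCommutative_of_card_eq_prime_sq (p := 2) (G := S) (by rw [h]; norm_num)).is_comm.comm w x))
  · exact Or.inl ⟨2 ^ (k + 2), (show 2 ≤ 2 ^ 2 by norm_num).trans (Nat.pow_le_pow_right two_pos (by omega)), hk⟩
  · exact Or.inr ⟨k + 3, by omega, hk, a, b, ha, hb, by rw [hab, show k + 3 - 1 = k + 2 by omega]⟩
  · exfalso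
    apply hzw
    apply e.injective
    have key : ∀ q : QuaternionGroup (2 ^ (k + 1)), q * q = 1 → q ≠ 1 →
        q = QuaternionGroup.a (2 ^ (k + 1) : ℕ) := by
      intro q hq hq1
      rcases q with i | i
      · rw [QuaternionGroup.a_mul_a, QuaternionGroup.one_def, QuaternionGroup.a.injEq] at hq
        have h' : (2 : ZMod (2 * 2 ^ (k + 1))) * i = 0 := (two_mul i).trans hq
        have h'' : ((2 * i.val : ℕ) : ZMod (2 * 2 ^ (k + 1))) = 0 := by
          rw [Nat.cast_mul, ZMod.natCast_zmod_val, Nat.cast_ofNat]; exact h'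
        rw [ZMod.natCast_eq_zero_iff] at h''
        replace h' := h''
        obtain ⟨c, hc⟩ := h'
        have hlt := ZMod.val_lt i
        have hv : i.val = 2 ^ (k + 1) * c := by nlinarith
        rcases c with _ | _ | c
        · exfalso
          exact hq1 (by rw [QuaternionGroup.one_def, ← ZMod.natCast_zmod_val i, hv, mul_zero, Nat.cast_zero])
        · rw [← ZMod.natCast_zmod_val i, hv, zero_add, mul_one]
        · exfalso
          nlinarith [Nat.two_pow_pos (k + 1)]
      · rw [QuaternionGroup.xa_mul_xa, QuaternionGroup.one_def, QuaternionGroup.a.injEq, add_sub_cancel_right] at hq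
        rw [ZMod.natCast_eq_zero_iff] at hq
        have := Nat.le_of_dvd (Nat.two_pow_pos _) hq
        have := Nat.two_pow_pos (k + 1)
        omega
    rw [key (e z) (by rw [← map_mul, hz, map_one]) (fun h => hz1 (e.injective (h.trans (map_one e).symm))),
      key (e w) (by rw [← map_mul, hw, map_one]) (fun h => hw1 (e.injective (h.trans (map_one e).symm)))]

/-- A homocyclic subgroup of index two whose involutions are moved gives a wreathed group. -/
theorem wreathed (T : Subgroup S) (hT2 : ∀ x y : S, x ∉ T → y ∉ T → x * y ∈ T) {n : ℕ} (hn : 2 ≤ n)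
    (e : T ≃* Multiplicative (ZMod (2 ^ n) × ZMod (2 ^ n))) {s : S} (hs : s ∉ T)
    (hnorm : ∀ x ∈ T, s * x * s⁻¹ ∈ T) {u : S} (huT : u ∈ T) (hu2 : u * u = 1)
    (hsu : s * u * s⁻¹ ≠ u) : Cfsg.IsWreathed S := by
  classical
  haveI : NeZero (2 ^ n) := ⟨by positivity⟩
  have hcomm : ∀ x ∈ T, ∀ y ∈ T, x * y = y * x := fun x hx y hy =>
    congrArg Subtype.val (e.injective (by rw [map_mul, map_mul, mul_comm]) : (⟨x, hx⟩ : T) * ⟨y, hy⟩ = ⟨y, hy⟩ * ⟨x, hx⟩)
  have hcard : Nat.card T = 2 ^ n * 2 ^ n := by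
    rw [Nat.card_congr e.toEquiv, Nat.card_congr Multiplicative.toAdd, Nat.card_prod, Nat.card_zmod]
  have hexp : ∀ x ∈ T, x ^ 2 ^ n = 1 := by
    intro x hx
    have : (⟨x, hx⟩ : T) ^ 2 ^ n = 1 := e.injective (by
      rw [map_pow, map_one]
      apply Multiplicative.toAdd.injective
      rw [toAdd_pow, toAdd_one]
      refine Prod.ext ?_ ?_
      · rw [Prod.smul_fst, Prod.fst_zero, nsmul_eq_mul, ZMod.natCast_self, zero_mul]
      · rw [Prod.smul_snd, Prod.snd_zero, nsmul_eq_mul, ZMod.natCast_self, zero_mul])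
    simpa using congrArg Subtype.val this
  -- a root of the involution
  obtain ⟨a, haT, hau⟩ : ∃ a ∈ T, a ^ 2 ^ (n - 1) = u := by
    have hh : ∀ i : ZMod (2 ^ n), i + i = 0 → ∃ j : ZMod (2 ^ n), (2 ^ (n - 1)) • j = i := by
      intro i hi
      have hv : 2 ^ n ∣ 2 * i.val := by
        rw [← ZMod.natCast_eq_zero_iff, Nat.cast_mul, ZMod.natCast_zmod_val, Nat.cast_ofNat, two_mul, hi]
      obtain ⟨c, hc⟩ := hv
      refine ⟨(c : ZMod (2 ^ n)), ?_⟩
      have h2n : 2 ^ n = 2 * 2 ^ (n - 1) := by rw [← pow_succ', show n - 1 + 1 = n by omega]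
      have hiv : i.val = 2 ^ (n - 1) * c :=
        Nat.eq_of_mul_eq_mul_left two_pos (by rw [hc, ← mul_assoc, ← h2n])
      rw [nsmul_eq_mul, ← Nat.cast_mul, ← hiv, ZMod.natCast_zmod_val]
    set q := Multiplicative.toAdd (e ⟨u, huT⟩) with hq
    have hqq : q + q = 0 := by
      rw [hq, ← toAdd_mul, ← map_mul, show (⟨u, huT⟩ : T) * ⟨u, huT⟩ = 1 from Subtype.ext hu2, map_one, toAdd_one]
    obtain ⟨j, hj⟩ := hh q.1 (congrArg Prod.fst hqq)
    obtain ⟨l, hl⟩ := hh q.2 (congrArg Prod.snd hqq)
    refine ⟨(e.symm (Multiplicative.ofAdd (j, l)) : S), SetLike.coe_mem _, ?_⟩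
    rw [← SubgroupClass.coe_pow, ← map_pow]
    have : Multiplicative.ofAdd (j, l) ^ 2 ^ (n - 1) = e ⟨u, huT⟩ := by
      apply Multiplicative.toAdd.injective
      rw [toAdd_pow, toAdd_ofAdd, ← hq]
      exact Prod.ext hj hl
    rw [this, e.symm_apply_apply]
  have hu1 : u ≠ 1 := fun h => hsu (by simp [h])
  set b := s * a * s⁻¹ with hbdef
  have hbT : b ∈ T := hnorm a haT
  have hoa : orderOf a = 2 ^ n := by
    rw [show n = n - 1 + 1 by omega]
    exact orderOf_eq_prime_pow (fun h => hu1 (hau ▸ h)) (by rw [show n - 1 + 1 = n by omega]; exact hexp a haT)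
  have hob : orderOf b = 2 ^ n := by rw [hbdef, ← hoa]; exact (MulAut.conj s).orderOf_eq a
  have hdisj : zpowers a ⊓ zpowers b = ⊥ := by
    haveI : Fact (Nat.Prime 2) := ⟨Nat.prime_two⟩
    by_contra hne
    have hp : IsPGroup 2 (zpowers a) := IsPGroup.of_card (n := n) (by rw [Nat.card_zpowers, hoa])
    haveI : Nontrivial ↥(zpowers a ⊓ zpowers b) := nontrivial_iff_ne_bot _ |>.2 hne
    obtain ⟨k, hk0, hk⟩ := (hp.to_le (inf_le_left : zpowers a ⊓ zpowers b ≤ _)).nontrivial_iff_card.1 inferInstance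
    obtain ⟨y, hy⟩ := exists_prime_orderOf_dvd_card' (G := ↥(zpowers a ⊓ zpowers b)) 2
      (by rw [hk]; exact dvd_pow_self 2 (by omega))
    have hy' : orderOf (y : S) = 2 := by rw [Subgroup.orderOf_coe]; exact hy
    have key : ∀ c : S, orderOf c = 2 ^ n → (y : S) ∈ zpowers c → (y : S) = c ^ 2 ^ (n - 1) := by
      intro c hc hyc
      obtain ⟨i, hi'⟩ := (isOfFinOrder_of_finite c).mem_powers_iff_mem_zpowers.2 hyc
      obtain ⟨i, hi, hiy⟩ : ∃ i, i < 2 ^ n ∧ c ^ i = (y : S) :=
        ⟨i % 2 ^ n, Nat.mod_lt _ (Nat.two_pow_pos n), by rw [← hc, pow_mod_orderOf]; exact hi'⟩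
      have h2 : c ^ (2 * i) = 1 := by
        rw [mul_comm, pow_mul, hiy, ← hy']
        exact pow_orderOf_eq_one _
      obtain ⟨r, hr⟩ := orderOf_dvd_of_pow_eq_one h2
      rw [hc, show 2 ^ n = 2 * 2 ^ (n - 1) by rw [← pow_succ', show n - 1 + 1 = n by omega]] at hr
      have hir : i = 2 ^ (n - 1) * r := Nat.eq_of_mul_eq_mul_left two_pos (by rw [hr]; ring)
      rcases r with _ | _ | r
      · exfalso
        rw [hir, mul_zero, pow_zero] at hiy
        rw [← hiy, orderOf_one] at hy'
        omega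
      · rw [← hiy, hir, zero_add, mul_one]
      · exfalso
        have : 2 ^ n = 2 * 2 ^ (n - 1) := by rw [← pow_succ', show n - 1 + 1 = n by omega]
        nlinarith [Nat.two_pow_pos (n - 1)]
    have e1 := key a hoa y.2.1
    have e2 := key b hob y.2.2
    apply hsu
    rw [← hau]
    nth_rw 2 [← e1]
    rw [e2, hbdef, conj_pow]
  -- every element of `T` is a word
  have hgen : ∀ t ∈ T, ∃ i j : ℤ, t = a ^ i * b ^ j := by
    let f : zpowers a × zpowers b → T := fun p => ⟨(p.1 : S) * p.2,
      mul_mem (zpowers_le.2 haT p.1.2) (zpowers_le.2 hbT p.2.2)⟩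
    have hf : Function.Injective f := by
      rintro ⟨p, q⟩ ⟨p', q'⟩ h
      exact mul_injective_of_disjoint (disjoint_iff.2 hdisj) (congrArg Subtype.val h)
    have hbij : Function.Bijective f := (Nat.bijective_iff_injective_and_card f).2 ⟨hf, by
      rw [Nat.card_prod, Nat.card_zpowers, Nat.card_zpowers, hoa, hob, hcard]⟩
    intro t ht
    obtain ⟨⟨⟨p, i, rfl⟩, ⟨q, j, rfl⟩⟩, hp⟩ := hbij.surjective ⟨t, ht⟩
    exact ⟨i, j, (congrArg Subtype.val hp).symm⟩
  obtain ⟨i, j, hij⟩ := hgen (s * s) (hT2 s s hs hs)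
  have hsb : s * b * s⁻¹ = a := by
    rw [hbdef, show s * (s * a * s⁻¹) * s⁻¹ = (s * s) * a * (s * s)⁻¹ by group,
      hcomm _ (hT2 s s hs hs) a haT, mul_inv_cancel_right]
  have hsa : s * a * s⁻¹ = b := rfl
  have hfix : a ^ i * b ^ j = b ^ i * a ^ j := by
    have h1 : s * (a ^ i * b ^ j) * s⁻¹ = b ^ i * a ^ j := by
      rw [← conj_mul, ← conj_zpow, ← conj_zpow, hsa, hsb]
    rw [← h1, ← hij]
    group
  have hij' : a ^ i = a ^ j := by
    have hm : a ^ (i - j) ∈ zpowers a ⊓ zpowers b := by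
      refine ⟨⟨i - j, rfl⟩, i - j, ?_⟩
      show b ^ (i - j) = a ^ (i - j)
      have h2 : a ^ i * b ^ j = a ^ j * b ^ i := by
        rw [hfix, hcomm _ (T.zpow_mem hbT i) _ (T.zpow_mem haT j)]
      rw [zpow_sub, zpow_sub]
      calc b ^ i * (b ^ j)⁻¹ = (a ^ j)⁻¹ * (a ^ j * b ^ i) * (b ^ j)⁻¹ := by group
        _ = (a ^ j)⁻¹ * a ^ i := by rw [← h2]; group
        _ = a ^ i * (a ^ j)⁻¹ := hcomm _ (inv_mem (T.zpow_mem haT j)) _ (T.zpow_mem haT i)
    rw [hdisj, mem_bot, zpow_sub, mul_inv_eq_one] at hm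
    exact hm
  refine ⟨n, hn, ?_, a, b, s * a ^ (-j), hoa, hcomm a haT b hbT, hdisj, ?_, ?_⟩
  · have hidx : T.index = 2 := index_eq_two_iff.2 ⟨s, fun x => by
      by_cases hx : x ∈ T
      · refine Or.inr ⟨hx, fun h => hs ?_⟩
        simpa using T.mul_mem (T.inv_mem hx) h
      · exact Or.inl ⟨hT2 x s hx hs, hx⟩⟩
    rw [← T.card_mul_index, hidx, hcard, pow_succ, two_mul, pow_add]
  · refine orderOf_eq_prime ?_ ?_
    · rw [pow_two]
      calc s * a ^ (-j) * (s * a ^ (-j)) = (s * a ^ (-j) * s⁻¹) * (s * s) * a ^ (-j) := by group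
        _ = b ^ (-j) * (a ^ j * b ^ j) * a ^ (-j) := by rw [← conj_zpow, hsa, hij, hij']
        _ = b ^ (-j) * (b ^ j * a ^ j) * a ^ (-j) := by rw [hcomm _ (T.zpow_mem haT j) _ (T.zpow_mem hbT j)]
        _ = 1 := by group
    · intro h
      refine hs ?_
      rw [show s = (a ^ (-j))⁻¹ by exact eq_inv_of_mul_eq_one_left h]
      exact inv_mem (T.zpow_mem haT _)
  · calc s * a ^ (-j) * a * (s * a ^ (-j))⁻¹ = s * (a ^ (-j) * a * (a ^ (-j))⁻¹) * s⁻¹ := by group
      _ = b := by rw [show a ^ (-j) * a * (a ^ (-j))⁻¹ = a by group, hsa]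

open Cfsg.Lib.TwoFour in
/-- The group of order 64 has no outer automorphism of order two moving the involutions. -/
theorem no_twist {T : Type*} [Group T] [Finite T] {ρ : T ≃* T} {V : Subgroup T} (H : Hyp64 ρ V)
    (hno : ¬ ∃ x, x ∉ V ∧ x * x = 1) (c : T ≃* T) {u z : T} (hu : u ∈ V) (hu1 : u ≠ 1)
    (hz : z ∈ V) (hz1 : z ≠ 1) (huz : u ≠ z) (hcu : c u = u * z) (hcz : c z = z)
    (hcV : ∀ t, (c (c t))⁻¹ * t ∈ V) : False := by
  classical
  have hV := H.four
  haveI hVn : V.Normal := ⟨fun v hv g => by rw [hV.central v hv g, mul_inv_cancel_right]; exact hv⟩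
  have hinvV : ∀ t, t * t = 1 → t ∈ V := fun t ht => by
    by_contra h
    exact hno ⟨t, h, ht⟩
  have hmemV : ∀ t, t ∈ V ↔ t * t = 1 := fun t => ⟨hV.sq t, hinvV t⟩
  have hcinV : ∀ t, t ∈ V → c t ∈ V := fun t ht => (hmemV _).2 (by rw [← map_mul, hV.sq t ht, map_one])
  have hcomV : ∀ x y : T, ⁅x, y⁆ ∈ V := fun x y => H.comm_mem x y
  have hVlist : ∀ v ∈ V, v = 1 ∨ v = z ∨ v = u ∨ v = u * z := by
    intro v hv
    rcases hV.cases H.fpf hz hz1 hv with h | h | h | h
    · exact Or.inl h
    · exact Or.inr (Or.inl h)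
    all_goals
      rcases hV.cases H.fpf hz hz1 hu with e | e | e | e
      · exact absurd e hu1
      · exact absurd e huz
      all_goals
        rcases hV.cases H.fpf hz hz1 (V.mul_mem hu hz) with f | f | f | f
        · exact absurd (by rw [← f, mul_assoc, hV.sq z hz, mul_one]) (show u * z * z ≠ 1 * z by
            rw [mul_assoc, hV.sq z hz, mul_one, one_mul]; exact huz)
        · exact absurd (mul_eq_right.1 f) hu1
        all_goals
          first
            | exact Or.inr (Or.inr (Or.inl (h.trans e.symm)))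
            | exact Or.inr (Or.inr (Or.inr (h.trans f.symm)))
            | exact absurd (mul_eq_left.1 (f.trans e.symm)) hz1
  have hsqV : ∀ x v : T, v ∈ V → x * v * (x * v) = x * x := by
    intro x v hv
    calc x * v * (x * v) = x * (v * x) * v := by group
      _ = x * (x * v) * v := by rw [hV.central v hv x]
      _ = x * x * (v * v) := by group
      _ = x * x := by rw [hV.sq v hv, mul_one]
  have hcfix : ∀ v ∈ V, c v = v → v = 1 ∨ v = z := by
    intro v hv h
    rcases hVlist v hv with e | e | e | e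
    · exact Or.inl e
    · exact Or.inr e
    · rw [e, hcu, mul_eq_left] at h; exact absurd h hz1
    · rw [e, map_mul, hcu, hcz, mul_eq_left] at h
      exact absurd h hz1
  have hcommc : ∀ x y : T, c ⁅x, y⁆ = ⁅c x, c y⁆ := fun x y => map_commutatorElement c x y
  -- the fixed points modulo `V`
  have hfixsq : ∀ f, f⁻¹ * c f ∈ V → f ∉ V → f * f = z := by
    intro f hf hfV
    have e : c (f * f) = f * f := by
      rw [map_mul, show c f = f * (f⁻¹ * c f) by group]
      exact hsqV f _ hf
    rcases hcfix _ (H.sq_mem f) e with h | h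
    · exact absurd (hinvV f h) hfV
    · exact h
  -- two independent fixed points do not commute
  have hfixmul : ∀ f g, f⁻¹ * c f ∈ V → g⁻¹ * c g ∈ V → (f * g)⁻¹ * c (f * g) ∈ V := by
    intro f g hf hg
    rw [map_mul, show (f * g)⁻¹ * (c f * c g) = (g⁻¹ * (f⁻¹ * c f) * g) * (g⁻¹ * c g) by group]
    exact V.mul_mem (by simpa using hVn.conj_mem _ hf g⁻¹) hg
  have hindep : ∀ f g, f⁻¹ * c f ∈ V → g⁻¹ * c g ∈ V → f ∉ V → g ∉ V → f * g ∉ V →
      f * g ≠ g * f := by
    intro f g hf hg hfV hgV hfgV h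
    have h1 := hfixsq _ (hfixmul f g hf hg) hfgV
    rw [show f * g * (f * g) = f * (g * f) * g by group, ← h,
      show f * (f * g) * g = (f * f) * (g * g) by group, hfixsq f hf hfV, hfixsq g hg hgV,
      hV.sq z hz] at h1
    exact hz1 h1.symm
  -- the displacement of a root of `u`
  set δ : T → T := fun t => t⁻¹ * c t
  have hroot : ∀ t, t * t = u → δ t ∉ V ∧ (δ t)⁻¹ * c (δ t) ∈ V ∧ t * δ t = δ t * t := by
    intro t ht
    have hct : c t * c t = u * z := by rw [← map_mul, ht, hcu]
    have hm : δ t ∉ V := by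
      intro h
      have e : c t * c t = t * t := by
        rw [show c t = t * δ t by simp [δ]]
        exact hsqV t _ h
      rw [hct, ht, mul_eq_left] at e
      exact hz1 e
    have hmfix : (δ t)⁻¹ * c (δ t) ∈ V := by
      have e : (δ t)⁻¹ * c (δ t) = (c t)⁻¹ * t * (c t)⁻¹ * t * (t⁻¹ * c (c t)) := by
        simp only [δ, map_mul, map_inv]
        group
      rw [e]
      refine V.mul_mem ?_ ?_
      · have := H.sq_mem ((c t)⁻¹ * t)
        simpa [mul_assoc] using this
      · have := V.inv_mem (hcV t)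
        simpa [mul_inv_rev] using this
    refine ⟨hm, hmfix, ?_⟩
    -- the commutator of `t` and `c t` is trivial
    have hsym : c ⁅t, c t⁆ = ⁅t, c t⁆ := by
      rw [hcommc]
      have e1 : ⁅c t, c (c t)⁆ = ⁅c t, t⁆ := by
        have hv : (c (c t))⁻¹ * t ∈ V := hcV t
        set v := (c (c t))⁻¹ * t with hvdef
        rw [show c (c t) = t * v⁻¹ by rw [hvdef]; group, commutatorElement_def, commutatorElement_def]
        calc c t * (t * v⁻¹) * (c t)⁻¹ * (t * v⁻¹)⁻¹
            = c t * t * (v⁻¹ * (c t)⁻¹) * v * t⁻¹ := by group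
          _ = c t * t * ((c t)⁻¹ * v⁻¹) * v * t⁻¹ := by rw [hV.central _ (V.inv_mem hv) (c t)⁻¹]
          _ = c t * t * (c t)⁻¹ * t⁻¹ := by group
      rw [e1, ← commutatorElement_inv]
      exact hV.inv_self (hcomV _ _)
    have hm2 := hfixsq _ hmfix hm
    rcases hcfix _ (hcomV t (c t)) hsym with h | h
    · rw [commutatorElement_eq_one_iff_mul_comm] at h
      show t * (t⁻¹ * c t) = t⁻¹ * c t * t
      rw [mul_assoc, ← h]
      group
    · exfalso
      have hc' : c t * t = t * c t * z := by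
        have : ⁅t, c t⁆ = z := h
        rw [commutatorElement_def] at this
        calc c t * t = (t * c t * t⁻¹ * (c t)⁻¹)⁻¹ * (t * c t) := by group
          _ = z * (t * c t) := by rw [this, hV.inv_self hz]
          _ = t * c t * z := (hV.central z hz _).symm
      have e : δ t * δ t = 1 := by
        show t⁻¹ * c t * (t⁻¹ * c t) = 1
        have e2 : c t * t⁻¹ = c t * t * u := by
          rw [← ht]
          calc c t * t⁻¹ = c t * t⁻¹ * (t * t)⁻¹ * (t * t) := by group
            _ = c t * t⁻¹ * (t * t) * (t * t) := by rw [hV.inv_self (H.sq_mem t)]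
            _ = c t * t * (t * t) := by group
        calc t⁻¹ * c t * (t⁻¹ * c t) = t⁻¹ * (c t * t⁻¹) * c t := by group
          _ = t⁻¹ * (c t * t * u) * c t := by rw [e2]
          _ = t⁻¹ * (t * c t * z * u) * c t := by rw [hc']
          _ = c t * (z * u * c t) := by group
          _ = c t * (c t * (z * u)) := by rw [hV.central _ (V.mul_mem hz hu) (c t)]
          _ = (u * z) * (z * u) := by rw [← mul_assoc, hct]
          _ = u * (z * z) * u := by group
          _ = 1 := by rw [hV.sq z hz, mul_one, hV.sq u hu]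
      rw [hm2] at e
      exact hz1 e
  -- roots with the same displacement modulo `V` agree modulo `V`
  have hinj : ∀ t t', t * t = u → t' * t' = u → (δ t)⁻¹ * δ t' ∈ V → t⁻¹ * t' ∈ V := by
    intro t t' ht ht' hd
    obtain ⟨hm, hmfix, hmt⟩ := hroot t ht
    obtain ⟨-, -, hmt'⟩ := hroot t' ht'
    by_contra hf
    set f := t⁻¹ * t' with hfdef
    have hffix : f⁻¹ * c f ∈ V := by
      set d := (δ t)⁻¹ * δ t' with hddef
      have e : f⁻¹ * c f = ⁅t'⁻¹ * t, (δ t)⁻¹⁆ * d := by
        simp only [hfdef, hddef, δ, map_mul, map_inv, commutatorElement_def]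
        group
      rw [e]
      exact V.mul_mem (hcomV _ _) hd
    have hmf : δ t * f = f * δ t := by
      have h1 : δ t * t' = t' * δ t := by
        set d := (δ t)⁻¹ * δ t' with hddef
        have e : δ t = δ t' * d⁻¹ := by rw [hddef]; group
        rw [e, mul_assoc, ← hV.central _ (V.inv_mem hd) t', ← mul_assoc, ← hmt', mul_assoc]
      have h2 : δ t * t⁻¹ = t⁻¹ * δ t := ((show Commute (δ t) t from hmt.symm).inv_right).eq
      rw [hfdef, ← mul_assoc, h2, mul_assoc, h1, mul_assoc]
    have hmV : δ t * f ∈ V := by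
      by_contra h
      exact hindep _ _ hmfix hffix hm hf h hmf
    -- so `f` agrees with `δ t`, which commutes with `t`
    have hft : f * t = t * f := by
      have e : f = (δ t)⁻¹ * (δ t * f) := by group
      rw [e, mul_assoc, ← hV.central _ hmV t, ← mul_assoc, ← mul_assoc]
      congr 1
      rw [mul_assoc, hmt, inv_mul_cancel_left]
    have := ht'
    rw [show t' = t * f by rw [hfdef]; group, show t * f * (t * f) = t * (f * t) * f by group, hft,
      show t * (t * f) * f = (t * t) * (f * f) by group, ht, hfixsq f hffix hf, mul_eq_left] at this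
    exact hz1 this
  -- at most four classes of fixed points
  let F : Subgroup T :=
    { carrier := {f | f⁻¹ * c f ∈ V}
      one_mem' := by simp
      mul_mem' := fun {a b} ha hb => hfixmul a b ha hb
      inv_mem' := fun {a} ha => by
        show (a⁻¹)⁻¹ * c a⁻¹ ∈ V
        rw [map_inv, inv_inv, show a * (c a)⁻¹ = a * (a⁻¹ * c a)⁻¹ * a⁻¹ by group]
        exact hVn.conj_mem _ (V.inv_mem ha) a }
  have hF4 : Nat.card (F.map (QuotientGroup.mk' V)) ≤ 4 := by
    set Q := F.map (QuotientGroup.mk' V)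
    by_contra hlt
    push Not at hlt
    haveI : Fintype Q := Fintype.ofFinite _
    rw [Nat.card_eq_fintype_card] at hlt
    obtain ⟨f, hf1⟩ : ∃ f : Q, f ≠ 1 := Fintype.exists_ne_of_one_lt_card (by omega) 1
    obtain ⟨g, hg⟩ : ∃ g : Q, g ∉ ({1, f} : Finset Q) := (by
      by_contra hc; push Not at hc
      have := Finset.card_le_card (show (Finset.univ : Finset Q) ⊆ {1, f} from fun a _ => hc a)
      have := Finset.card_le_two (a := (1 : Q)) (b := f)
      rw [Finset.card_univ] at *; omega)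
    obtain ⟨h, hh⟩ : ∃ h : Q, h ∉ ({1, f, g, f * g} : Finset Q) := (by
      by_contra hc; push Not at hc
      have := Finset.card_le_card (show (Finset.univ : Finset Q) ⊆ {1, f, g, f * g} from fun a _ => hc a)
      have := Finset.card_le_four (a := (1 : Q)) (b := f) (c := g) (d := f * g)
      rw [Finset.card_univ] at *; omega)
    simp only [Finset.mem_insert, Finset.mem_singleton, not_or] at hg hh
    obtain ⟨fv, hfF, hfe⟩ := mem_map.1 f.2
    obtain ⟨gv, hgF, hge⟩ := mem_map.1 g.2
    obtain ⟨hv, hhF, hhe⟩ := mem_map.1 h.2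
    have key : ∀ (x : T) (q : Q), QuotientGroup.mk' V x = (q : T ⧸ V) → (x ∈ V ↔ q = 1) := by
      intro x q hq
      rw [← QuotientGroup.eq_one_iff, ← OneMemClass.coe_eq_one, ← hq]
      rfl
    have hsq : ∀ q : Q, q * q = 1 := by
      intro q
      obtain ⟨x, -, hx⟩ := mem_map.1 q.2
      apply Subtype.ext
      rw [Subgroup.coe_mul, ← hx, ← map_mul]
      exact (QuotientGroup.eq_one_iff _).2 (H.sq_mem x)
    have hinv : ∀ q : Q, q⁻¹ = q := fun q => inv_eq_of_mul_eq_one_left (hsq q)
    have hfV : fv ∉ V := fun e => hf1 ((key fv f hfe).1 e)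
    have hgV : gv ∉ V := fun e => hg.1 ((key gv g hge).1 e)
    have hhV : hv ∉ V := fun e => hh.1 ((key hv h hhe).1 e)
    have hfgV : fv * gv ∉ V := fun e => by
      have := (key (fv * gv) (f * g) (by rw [map_mul, hfe, hge]; rfl)).1 e
      exact hg.2 ((eq_inv_of_mul_eq_one_right this).trans (hinv f))
    have hfhV : fv * hv ∉ V := fun e => by
      have := (key (fv * hv) (f * h) (by rw [map_mul, hfe, hhe]; rfl)).1 e
      exact hh.2.1 ((eq_inv_of_mul_eq_one_right this).trans (hinv f))
    have hghV : gv * hv ∉ V := fun e => by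
      have := (key (gv * hv) (g * h) (by rw [map_mul, hge, hhe]; rfl)).1 e
      exact hh.2.2.1 ((eq_inv_of_mul_eq_one_right this).trans (hinv g))
    have hfghV : fv * (gv * hv) ∉ V := fun e => by
      have := (key (fv * (gv * hv)) (f * (g * h)) (by rw [map_mul, map_mul, hfe, hge, hhe]; rfl)).1 e
      rw [← mul_assoc] at this
      exact hh.2.2.2 ((eq_inv_of_mul_eq_one_right this).trans (hinv _))
    have hcom : ∀ x y, x⁻¹ * c x ∈ V → y⁻¹ * c y ∈ V → x ∉ V → y ∉ V → x * y ∉ V → x * y = y * x * z := by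
      intro x y hx hy hxV hyV hxyV
      have h1 := hfixsq _ (hfixmul x y hx hy) hxyV
      calc x * y = y⁻¹ * x⁻¹ * (x * y * (x * y)) := by group
        _ = y⁻¹ * x⁻¹ * z := by rw [h1]
        _ = y * (y * y)⁻¹ * (x * (x * x)⁻¹) * z := by group
        _ = y * z * (x * z) * z := by
          rw [hfixsq y hy hyV, hfixsq x hx hxV, hV.inv_self hz]
        _ = y * (z * x) * (z * z) := by group
        _ = y * (x * z) := by rw [hV.sq z hz, mul_one, hV.central z hz x]
        _ = y * x * z := by group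
    -- `fv` commutes with `gv * hv`
    refine hindep fv (gv * hv) hfF (hfixmul gv hv hgF hhF) hfV hghV hfghV ?_
    calc fv * (gv * hv) = fv * gv * hv := by group
      _ = gv * fv * z * hv := by rw [hcom fv gv hfF hgF hfV hgV hfgV]
      _ = gv * (fv * (z * hv)) := by group
      _ = gv * (fv * (hv * z)) := by rw [hV.central z hz hv]
      _ = gv * (fv * hv) * z := by group
      _ = gv * (hv * fv * z) * z := by rw [hcom fv hv hfF hhF hfV hhV hfhV]
      _ = gv * hv * fv * (z * z) := by group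
      _ = gv * hv * fv := by rw [hV.sq z hz, mul_one]
  -- counting square roots
  let R : T → Type _ := fun v => {t : T // t * t = v}
  have hu3 : Nat.card (R u) ≤ 12 := by
    have hmem : ∀ t : R u, QuotientGroup.mk' V (δ t.1) ∈ F.map (QuotientGroup.mk' V) :=
      fun t => mem_map_of_mem _ (hroot t.1 t.2).2.1
    let D : R u → {q : ↥(F.map (QuotientGroup.mk' V)) // q ≠ 1} := fun t => ⟨⟨_, hmem t⟩, fun e =>
      (hroot t.1 t.2).1 ((QuotientGroup.eq_one_iff _).1 (congrArg Subtype.val e))⟩
    have hD : ∀ t t' : R u, D t = D t' → t.1⁻¹ * t'.1 ∈ V := fun t t' e =>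
      hinj _ _ t.2 t'.2 (QuotientGroup.eq.1 (congrArg Subtype.val (congrArg Subtype.val e)))
    have h3 : Nat.card {q : ↥(F.map (QuotientGroup.mk' V)) // q ≠ 1} ≤ 3 := by
      haveI := Fintype.ofFinite ↥(F.map (QuotientGroup.mk' V))
      rw [Nat.card_eq_fintype_card] at hF4 ⊢
      rw [Fintype.card_subtype_compl, Fintype.card_subtype_eq]
      omega
    -- each class holds four elements
    have hrep : ∀ q : {q : ↥(F.map (QuotientGroup.mk' V)) // q ≠ 1},
        ∃ b : T, ∀ t, D t = q → b⁻¹ * t.1 ∈ V := by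
      intro q
      by_cases h : ∃ t, D t = q
      · obtain ⟨t₀, ht₀⟩ := h
        exact ⟨t₀.1, fun t ht => hD t₀ t (ht₀.trans ht.symm)⟩
      · exact ⟨1, fun t ht => absurd ⟨t, ht⟩ h⟩
    choose b hb using hrep
    let E : R u → {q : ↥(F.map (QuotientGroup.mk' V)) // q ≠ 1} × V := fun t =>
      (D t, ⟨(b (D t))⁻¹ * t.1, hb _ t rfl⟩)
    have hE : Function.Injective E := by
      intro t t' e
      obtain ⟨e1, e2⟩ := Prod.ext_iff.1 e
      have e1' : D t = D t' := e1
      have e2' : (b (D t))⁻¹ * t.1 = (b (D t'))⁻¹ * t'.1 := congrArg Subtype.val e2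
      rw [e1', mul_right_inj] at e2'
      exact Subtype.ext e2'
    refine le_trans (Nat.card_le_card_of_injective E hE) ?_
    rw [Nat.card_prod, hV.card]
    omega
  have hρR : ∀ v, Nat.card (R (ρ v)) = Nat.card (R v) := fun v =>
    Nat.card_congr ((ρ.toEquiv.subtypeEquiv fun t => by
      show t * t = v ↔ ρ t * ρ t = ρ v
      rw [← map_mul, ρ.injective.eq_iff]).symm)
  -- all four classes
  haveI : Fintype T := Fintype.ofFinite T
  have hcount : Nat.card T ≤ Nat.card (R 1) + (Nat.card (R u) + (Nat.card (R (ρ u)) + Nat.card (R (ρ (ρ u))))) := by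
    let f : R 1 ⊕ (R u ⊕ (R (ρ u) ⊕ R (ρ (ρ u)))) → T
      | Sum.inl t => t.1
      | Sum.inr (Sum.inl t) => t.1
      | Sum.inr (Sum.inr (Sum.inl t)) => t.1
      | Sum.inr (Sum.inr (Sum.inr t)) => t.1
    have hf : Function.Surjective f := by
      intro t
      rcases hV.cases H.fpf hu hu1 (H.sq_mem t) with h | h | h | h
      · exact ⟨Sum.inl ⟨t, h⟩, rfl⟩
      · exact ⟨Sum.inr (Sum.inl ⟨t, h⟩), rfl⟩
      · exact ⟨Sum.inr (Sum.inr (Sum.inl ⟨t, h⟩)), rfl⟩
      · exact ⟨Sum.inr (Sum.inr (Sum.inr ⟨t, h⟩)), rfl⟩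
    have := Nat.card_le_card_of_surjective f hf
    simpa [Nat.card_sum] using this
  have h1 : Nat.card (R 1) ≤ 4 := by
    rw [← hV.card]
    exact Nat.card_le_card_of_injective (fun t => (⟨t.1, hinvV t.1 t.2⟩ : V))
      (fun t t' e => Subtype.ext (congrArg (fun x : V => (x : T)) e))
  rw [hρR, hρR, hρR, H.card] at hcount
  omega

end Cfsg.Lib.RankTwoFusion
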